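import Groth.Agent.Lib.CI2.RImmBC
import Groth.Agent.Lib.AlgSpDescent.SchemeSmooth

/-!
# Descent of Koszul-regular immersions along flat open surjections
-/

universe u

set_option backward.isDefEq.respectTransparency.types false
set_option linter.style.haveILetI false

open CategoryTheory CategoryTheory.Limits AlgebraicGeometry

namespace Groth.Agent.LciSp27

theorem isRegularImmersion_descent_open {X Y X' Y' : Scheme.{u}} (i : Y ⟶ X) [IsImmersion i] (g : X' ⟶ X) [Flat g]
    [Surjective g] (hopen : IsOpenMap g) (i' : Y' ⟶ X') (g' : Y' ⟶ Y) (hsq : IsPullback g' i' i g)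
    (hi' : RegImm.IsRegularImmersion .koszul i') : RegImm.IsRegularImmersion .koszul i := by
  refine CI2.isRegularImmersion_of_forall_isKR i fun z => ?_
  obtain ⟨U, hU, hzU, -, hcl⟩ := CI2.exists_affine_closed i z (V := ⊤) trivial
  haveI := hcl
  haveI : IsAffine U.toScheme := hU
  haveI : Surjective (g ∣_ U) := IsZariskiLocalAtTarget.restrict (P := @Surjective) inferInstance U
  haveI : CompactSpace U.toScheme := isCompact_iff_compactSpace.1 hU.isCompact
  have hopenU : IsOpenMap (g ∣_ U) := by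
    intro O hO
    have : U.ι '' ((g ∣_ U) '' O) = g '' ((g ⁻¹ᵁ U).ι '' O) := by
      rw [← Set.image_comp, ← Set.image_comp]
      exact Set.image_congr' fun x => by
        show (g ∣_ U ≫ U.ι) x = ((g ⁻¹ᵁ U).ι ≫ g) x
        rw [morphismRestrict_ι]
    rw [U.ι.isOpenEmbedding.isOpen_iff_image_isOpen, this]
    exact hopen _ ((g ⁻¹ᵁ U).ι.isOpenEmbedding.isOpenMap _ hO)
  obtain ⟨ι, _, V, hV, hsurj⟩ := AlgSpDescent.exists_affine_open_surjective (g ∣_ U) hopenU
  haveI : ∀ j, IsAffine (V j).toScheme := fun j => hV j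
  haveI := hsurj
  let X'' : Scheme.{u} := ∐ fun j => (V j).toScheme
  let d : X'' ⟶ U.toScheme := Sigma.desc fun j => (V j).ι ≫ g ∣_ U
  let m : X'' ⟶ X' := Sigma.desc fun j => (V j).ι ≫ (g ⁻¹ᵁ U).ι
  haveI := HasRingHomProperty.instIsZariskiLocalAtSource (P := @Flat.{u}) (Q := RingHom.Flat)
  haveI : Flat d := IsZariskiLocalAtSource.sigmaDesc (P := @Flat.{u}) fun j => inferInstance
  haveI : Flat m := IsZariskiLocalAtSource.sigmaDesc (P := @Flat.{u}) fun j => inferInstance
  haveI : QuasiCompact d := inferInstance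
  have hdm : d ≫ U.ι = m ≫ g := by
    apply Sigma.hom_ext
    intro j
    simp [d, m, morphismRestrict_ι]
  let iU := pullback.snd i U.ι
  haveI := hi'.1
  have h1 : IsPullback (pullback.fst i' m ≫ g') (pullback.snd i' m) i (d ≫ U.ι) := by
    rw [hdm]
    exact (IsPullback.of_hasPullback i' m).paste_horiz hsq
  let g'' : pullback i' m ⟶ pullback i U.ι :=
    pullback.lift (pullback.fst i' m ≫ g') (pullback.snd i' m ≫ d) (by rw [Category.assoc (pullback.snd i' m)]; exact h1.w)
  have h2 : IsPullback g'' (pullback.snd i' m) iU d :=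
    IsPullback.of_right (by rw [pullback.lift_fst]; exact h1) (pullback.lift_snd _ _ _)
      (IsPullback.of_hasPullback i U.ι)
  have hiU : RegImm.IsRegularImmersion .koszul iU := CI2.isRegularImmersion_descent iU d _ g'' h2
    (CI2.isRegularImmersion_baseChange i' m _ _ (IsPullback.of_hasPullback i' m) hi')
  have hle : (⊤ : U.toScheme.Opens) ≤ U.ι ⁻¹ᵁ U := fun x _ => x.2
  haveI : IsClosedImmersion (iU ∣_ ⊤) :=
    CI2.isClosedImmersion_restrict_of_isPullback i U.ι iU _ (IsPullback.of_hasPullback i U.ι) hle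
  have hKR := CI2.isKR_of_isRegularImmersion iU hiU (isAffineOpen_top _)
  rw [CI2.ker_app_of_isPullback i U.ι iU _ (IsPullback.of_hasPullback i U.ι) hU (isAffineOpen_top _) hle] at hKR
  let φ := U.ι.appLE U ⊤ hle
  haveI : IsIso φ := by
    show IsIso (U.ι.appLE U ⊤ hle)
    rw [Scheme.Opens.ι_appLE]
    have hmapiso : ∀ {A₁ A₂ : X.Opens} (h₁ : A₁ = A₂) (hh : A₁ ≤ A₂), IsIso (X.presheaf.map (homOfLE hh).op) := by
      intro A₁ A₂ h₁ hh
      subst h₁
      rw [Subsingleton.elim (homOfLE hh) (𝟙 A₁), op_id, X.presheaf.map_id]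
      infer_instance
    exact hmapiso U.ι_image_top _
  refine ⟨U, hU, hzU, hcl, ?_⟩
  have h3 := CI2.isKR_map_of_flat (inv φ).hom
    (RingHom.Flat.of_bijective (ConcreteCategory.bijective_of_isIso (inv φ))) hKR
  rw [Ideal.map_map, ← CommRingCat.hom_comp, IsIso.hom_inv_id, CommRingCat.hom_id, Ideal.map_id] at h3
  exact h3

end Groth.Agent.LciSp27
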