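import Groth.Agent.Lib.LciSp27.Space
import Groth.Agent.Lib.AlgSpDescent.LocalBase
import Groth.Agent.S8658

/-!
# Koszul morphisms of algebraic spaces are fpqc local on the base
-/

universe u

set_option backward.isDefEq.respectTransparency.types false
set_option linter.style.haveILetI false

open CategoryTheory CategoryTheory.Limits AlgebraicGeometry AlgSp Opposite Topology

namespace Groth.Agent.LciSp27

open Groth.Agent.AlgSpace Groth.Agent.AlgSpDecent Groth.Agent.AlgSpRel14 Groth.Agent.AlgSpDescent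

variable {S : Scheme.{u}}

theorem schemeEquiv_ofPt {T T' : Over S} (φ : T ⟶ T') (t : T.left) {t' : T'.left}
    (e : Points.ofPt ((yon S).map φ) t = Points.ofScheme T' t') : φ.left t = t' := by
  rw [ofPt_map_eq] at e
  exact (Points.schemeEquiv T').injective e

/-- An fpqc covering refined, over an etale test scheme, by affines etale over the covering spaces and flat over it. -/
theorem exists_refinement {ι : Type u} {Y : Sp S} {Yi : ι → Sp S} {g : ∀ i, Yi i ⟶ Y} (hY : IsAlgSpace Y)
    (hYi : ∀ i, IsAlgSpace (Yi i)) (hg : IsFpqcCover Yi g) {Z : Over S} [IsAffine Z.left]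
    {t : (yon S).obj Z ⟶ Y} (ht : RepWith @Etale t) :
    ∃ (κ : Type u) (_ : Finite κ) (O : κ → Over S) (c : ∀ k, O k ⟶ Z) (σ : κ → ι)
      (β : ∀ k, (yon S).obj (O k) ⟶ Yi (σ k)), (∀ k, IsAffine (O k).left) ∧ (∀ k, Flat (c k).left) ∧
        (∀ k, RepWith @Etale (β k)) ∧ (∀ k, β k ≫ g (σ k) = (yon S).map (c k) ≫ t) ∧
        (∀ z : Z.left, ∃ k, z ∈ Set.range (c k).left) := by
  classical
  obtain ⟨m, W, cW, hW, -, hcs, hl⟩ := hg.2 Z inferInstance t
  choose i l hli using hl
  have sq : ∀ j, IsPullback (pullback.fst (g (i j)) t) (pullback.snd (g (i j)) t) (g (i j)) t :=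
    fun j => IsPullback.of_hasPullback _ _
  have hP : ∀ j, IsAlgSpace (pullback (g (i j)) t) := fun j =>
    isAlgSpace_pullback hY (hYi (i j)) (IsAlgSpace.yon_obj Z) (sq j)
  choose A r hre hrs using fun j => (hP j).atlas
  choose μ hμ using fun j => (yon S).map_surjective (r j ≫ pullback.snd (g (i j)) t)
  have hμf : ∀ j, Flat (μ j).left := fun j =>
    locP_of_isPullback (P := @Flat) (hYi (i j)) hY (IsAlgSpace.yon_obj Z) (sq j) (hg.1 (i j)) (r j) (𝟙 _) (μ j)
      (hre j) (repWith_id _ Z) (by rw [Category.comp_id, hμ])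
  let ll : ∀ j, (yon S).obj (W j) ⟶ pullback (g (i j)) t := fun j => (sq j).lift (l j) ((yon S).map (cW j)) (hli j)
  have hfin : ∀ j, ∃ T : Finset {O : (A j).left.Opens // IsAffineOpen O},
      ∀ w, ∃ O ∈ T, Points.ofPt (ll j) w ∈ Points.ofPt (r j) '' (O.1 : Set (A j).left) := by
    intro j
    haveI := hW j
    obtain ⟨T, hT⟩ := (isCompact_range (Points.continuous_ofPt (ll j))).elim_finite_subcover
      (fun O : {O : (A j).left.Opens // IsAffineOpen O} => Points.ofPt (r j) '' (O.1 : Set (A j).left))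
      (fun O => isOpenMap_ofPt (r j) (hre j) _ O.1.2) (fun p _ => by
        obtain ⟨a, rfl⟩ := surjective_ofPt (hrs j) p
        obtain ⟨O, hO, ha, -⟩ := exists_isAffineOpen_mem_and_subset (X := (A j).left) (x := a) (U := ⊤) trivial
        exact Set.mem_iUnion.2 ⟨⟨O, hO⟩, a, ha, rfl⟩)
    exact ⟨T, fun w => by simpa [Set.mem_iUnion] using hT ⟨w, rfl⟩⟩
  choose T hT using hfin
  let κ := Σ j : ULift.{u} (Fin m), {O // O ∈ T j.down}
  let O : κ → Over S := fun k => Over.mk (k.2.1.1.ι ≫ (A k.1.down).hom)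
  let ιO : ∀ k : κ, O k ⟶ A k.1.down := fun k => Over.homMk k.2.1.1.ι rfl
  refine ⟨κ, inferInstance, O, fun k => ιO k ≫ μ k.1.down, fun k => i k.1.down,
    fun k => (yon S).map (ιO k) ≫ r k.1.down ≫ pullback.fst (g (i k.1.down)) t, fun k => k.2.1.2, fun k => ?_,
    fun k => repWith_comp ((repWith_yon_map_iff @Etale _).2 (inferInstanceAs (Etale k.2.1.1.ι)))
      (repWith_comp (hre _) (repWith_of_isPullback (sq _).flip ht)), fun k => ?_, fun z => ?_⟩
  · haveI := hμf k.1.down
    rw [Over.comp_left]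
    exact inferInstanceAs (Flat (k.2.1.1.ι ≫ (μ k.1.down).left))
  · rw [Category.assoc, Category.assoc, (sq _).w, ← Category.assoc (r _), ← hμ, Functor.map_comp, Category.assoc]
  · obtain ⟨j, w, rfl⟩ := hcs z
    obtain ⟨O₀, hO₀, a, ha, e⟩ := hT j w
    refine ⟨⟨⟨j⟩, ⟨O₀, hO₀⟩⟩, (⟨a, ha⟩ : O₀.1.toScheme), ?_⟩
    have e2 := congrArg (Points.map (pullback.snd (g (i j)) t)) e
    rw [Points.map_ofPt, Points.map_ofPt, ← hμ, (sq j).lift_snd, ofPt_map_eq (cW j)] at e2
    exact schemeEquiv_ofPt (μ j) a e2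

theorem isLocalOnBase_lci : IsLocalOnBase (IsFpqcCover (S := S)) IsLCIMor := by
  intro ι Y Yi g hY hYi hg X f hX Xi p q hXi sq
  refine ⟨fun hf i => ?_, fun hp U V a b h hae hbe w u => ?_⟩
  · rw [isLCIMor_iff (hXi i) (hYi i)]
    intro x'
    obtain ⟨U, V, U', V', a, b, h, a', b', h', π, β, hae, -, hbe, -, ha'e, ha's, hb'e, -, w, w', -, wb, sqs⟩ :=
      exists_cart_diagram hX hY (hYi i) (sq i)
    haveI : Flat β.left := hg.1 i b' b β hb'e hbe wb
    obtain ⟨u', rfl⟩ := surjective_ofPt ha's x'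
    exact (kAt_chart ha'e hb'e w' u').2
      (S8658.result h.left β.left h'.left π.left sqs (hf a b h hae hbe w) u')
  · obtain ⟨O, hO, huO, -⟩ := exists_isAffineOpen_mem_and_subset (X := V.left) (x := h.left u) (U := ⊤) trivial
    let Z : Over S := Over.mk (O.ι ≫ V.hom)
    let zO : Z ⟶ V := Over.homMk O.ι rfl
    let U₁ : Over S := Over.mk ((h.left ⁻¹ᵁ O).ι ≫ U.hom)
    let iU : U₁ ⟶ U := Over.homMk (h.left ⁻¹ᵁ O).ι rfl
    let h₁ : U₁ ⟶ Z := Over.homMk (h.left ∣_ O) (by
      show (h.left ∣_ O) ≫ O.ι ≫ V.hom = (h.left ⁻¹ᵁ O).ι ≫ U.hom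
      rw [morphismRestrict_ι_assoc, CategoryTheory.Over.w h])
    haveI : IsAffine Z.left := hO
    let t := (yon S).map zO ≫ b
    have hte : RepWith @Etale t :=
      repWith_comp ((repWith_yon_map_iff @Etale _).2 (inferInstanceAs (Etale O.ι))) hbe
    have hα : RepWith @Etale ((yon S).map iU ≫ a) :=
      repWith_comp ((repWith_yon_map_iff @Etale _).2 (inferInstanceAs (Etale (h.left ⁻¹ᵁ O).ι))) hae
    have w₁ : ((yon S).map iU ≫ a) ≫ f = (yon S).map h₁ ≫ t := by
      rw [Category.assoc, w, ← Functor.map_comp_assoc, ← Functor.map_comp_assoc]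
      exact congrArg (fun m => (yon S).map m ≫ b) (Over.OverMorphism.ext (morphismRestrict_ι h.left O).symm)
    obtain ⟨κ, _, A, c, σ, β, hA, hcf, hβe, hβ, hcs⟩ := exists_refinement hY hYi hg hte
    have sqX : IsPullback (pullback.fst f t) (pullback.snd f t) f t := IsPullback.of_hasPullback f t
    let φ := sqX.lift _ _ w₁
    have hφ : RepWith @Etale φ := etale_lift (repWith_of_isPullback sqX.flip hte) hα (sqX.lift_fst _ _ _)
    have hk : ∀ k x, Synt.IsKoszulAt (pullback.snd h₁ (c k)).left x := by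
      intro k
      have sqc := IsPullback.of_hasPullback (pullback.snd f t) ((yon S).map (c k))
      obtain ⟨φ', hφ', hh', -⟩ :=
        exists_chart_baseChange (pullback.snd f t) φ h₁ hφ (sqX.lift_snd _ _ _).symm (c k) _ _ sqc
      have big := sqc.paste_horiz sqX
      rw [← hβ k] at big
      have hw := big.w
      rw [← Category.assoc (pullback.snd (pullback.snd f t) ((yon S).map (c k)))] at hw
      let li := (sq (σ k)).lift _ _ hw
      have sqi : IsPullback li (pullback.snd (pullback.snd f t) ((yon S).map (c k))) (p (σ k)) (β k) :=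
        IsPullback.of_right (by rw [(sq (σ k)).lift_fst]; exact big) ((sq (σ k)).lift_snd _ _ _) (sq (σ k))
      exact hp (σ k) (φ' ≫ li) (β k) (pullback.snd h₁ (c k))
        (repWith_comp hφ' (repWith_of_isPullback sqi.flip (hβe k))) (hβe k)
        (by rw [Category.assoc, sqi.w, ← Category.assoc, ← hh'])
    haveI : ∀ k, IsAffine (A k).left := hA
    let d : (∐ fun k => (A k).left) ⟶ Z.left := Sigma.desc fun k => (c k).left
    haveI := HasRingHomProperty.instIsZariskiLocalAtSource (P := @Flat.{u}) (Q := RingHom.Flat)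
    haveI : Flat d := IsZariskiLocalAtSource.sigmaDesc (P := @Flat.{u}) fun k => hcf k
    haveI : Surjective d := Surjective.sigmaDesc_of_union_range_eq_univ (Set.eq_univ_iff_forall.2 fun z =>
      Set.mem_iUnion.2 (hcs z))
    haveI : QuasiCompact d := inferInstance
    have key : ∀ x', Synt.IsKoszulAt (pullback.snd h₁.left d) x' := by
      intro x'
      obtain ⟨k, y, hy⟩ := (sigmaOpenCover (fun k => (A k).left)).exists_eq (pullback.snd h₁.left d x')
      let sι := Sigma.ι (fun k => (A k).left) k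
      change sι y = _ at hy
      obtain ⟨x'', hx''⟩ : x' ∈ Set.range (pullback.fst (pullback.snd h₁.left d) sι) := by
        rw [Scheme.Pullback.range_fst]; exact ⟨y, hy⟩
      have sqA : IsPullback (pullback.fst (pullback.snd h₁.left d) sι ≫ pullback.fst h₁.left d)
          (pullback.snd (pullback.snd h₁.left d) sι) h₁.left (sι ≫ d) :=
        (IsPullback.of_hasPullback _ _).paste_horiz (IsPullback.of_hasPullback h₁.left d)
      rw [show sι ≫ d = (c k).left from Sigma.ι_desc _ _] at sqA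
      have sqB : IsPullback (pullback.fst h₁ (c k)).left (pullback.snd h₁ (c k)).left h₁.left (c k).left :=
        (IsPullback.of_hasPullback h₁ (c k)).map (Over.forget S)
      let ε := sqA.isoIsPullback _ _ sqB
      have h1 : Synt.IsKoszulAt (pullback.snd (pullback.snd h₁.left d) sι) x'' := by
        rw [← sqA.isoIsPullback_hom_snd _ _ sqB]
        exact kAt_of_open ε.hom (hk k _)
      rw [← kAt_comp_etale_iff _ sι, ← pullback.condition] at h1
      exact hx'' ▸ kAt_to_open _ h1
    have h2 := CI2.isKoszulAt_descent h₁.left d (pullback.snd h₁.left d) (pullback.fst h₁.left d)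
      (IsPullback.of_hasPullback _ _) key (⟨u, huO⟩ : (h.left ⁻¹ᵁ O).toScheme)
    rw [← kAt_comp_etale_iff _ O.ι, show h₁.left ≫ O.ι = (h.left ⁻¹ᵁ O).ι ≫ h.left from morphismRestrict_ι _ _] at h2
    exact kAt_to_open _ h2

end Groth.Agent.LciSp27
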