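import Groth.Agent.Lib.LciSp27.Space
import Groth.Agent.Lib.LciSp27.Descent
import Groth.Agent.Lib.Cyc26.KoszulH1
import Groth.Agent.S2103
import Groth.Agent.S8656
import Groth.Agent.S9773

/-!
# Regular immersions and Koszul morphisms of algebraic spaces
-/

universe u

set_option backward.isDefEq.respectTransparency.types false
set_option linter.style.haveILetI false

open CategoryTheory CategoryTheory.Limits AlgebraicGeometry AlgSp Opposite Topology

namespace Groth.Agent.LciSp27

open Groth.Agent.AlgSpace Groth.Agent.AlgSpDecent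

variable {S : Scheme.{u}}

theorem isLCIMor_of_regImm {F G : Sp S} {i : F ⟶ G} (hi : IsRegImmMor RegImm.Kind.koszul i) : IsLCIMor i := by
  intro U V a b h hae hbe w u
  have sq := hi.1.isPullback b
  let σ : U ⟶ hi.1.pullback b := hi.1.lift a h w
  have hσ : RepWith @Etale ((yon S).map σ) :=
    etale_lift (repWith_of_isPullback sq.flip hbe) hae (hi.1.lift_fst _ _ _)
  haveI : Etale σ.left := (repWith_yon_map_iff _ _).1 hσ
  have hsnd : RegImm.IsRegularImmersion .koszul (hi.1.snd b).left := hi.2 b _ _ hbe sq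
  rw [show h.left = σ.left ≫ (hi.1.snd b).left from by rw [← Over.comp_left, hi.1.lift_snd]]
  exact (kAt_etale_comp_iff _ _ u).2 (S9773.result _ .koszul (Or.inr rfl) hsnd _)

theorem h1_of_koszul {A B : Scheme.{u}} {i : A ⟶ B} (h : RegImm.IsRegularImmersion .koszul i) :
    RegImm.IsRegularImmersion .h1 i := by
  refine ⟨h.1, fun z => ?_⟩
  obtain ⟨U, hz, hcl, rs, hrs, hker⟩ := h.2 z
  exact ⟨U, hz, hcl, rs, Cyc26.isH1Regular_of_isKoszulRegularSeq rs hrs, hker⟩

theorem quasi_of_h1 {A B : Scheme.{u}} {i : A ⟶ B} (h : RegImm.IsRegularImmersion .h1 i) :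
    RegImm.IsRegularImmersion .quasi i := by
  refine ⟨h.1, fun z => ?_⟩
  obtain ⟨U, hz, hcl, rs, hrs, hker⟩ := h.2 z
  exact ⟨U, hz, hcl, rs, S2103.result rs.get hrs, hker⟩

theorem regImm_of_lci_into_smooth {X Y P U : Space S} {f : X ⟶ Y} {g : P ⟶ Y} {e : U ⟶ X} {i : U ⟶ P}
    (hc : i.hom ≫ g.hom = e.hom ≫ f.hom) (hf : IsLCIMor f.hom) (hg : LocP @Smooth g.hom) (he : IsEtaleMor e.hom)
    (hi : RepWith @IsImmersion i.hom) : IsRegImmMor RegImm.Kind.koszul i.hom := by
  refine ⟨hi.1, fun V W b fst snd hbe sq => ?_⟩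
  haveI : IsImmersion snd.left := hi.2 b fst snd sq
  obtain ⟨Y₀, c, hce, hcs⟩ := Y.property.atlas
  have sqc := hcs.1.isPullback' (b ≫ g.hom)
  let ε : hcs.1.pullback (b ≫ g.hom) ⟶ V := hcs.1.snd (b ≫ g.hom)
  let k : hcs.1.pullback (b ≫ g.hom) ⟶ Y₀ := hcs.1.fst' (b ≫ g.hom)
  haveI : Etale ε.left := hce.2 (b ≫ g.hom) _ _ (hcs.1.isPullback (b ≫ g.hom))
  haveI : Surjective ε.left := hcs.2 (b ≫ g.hom) _ _ (hcs.1.isPullback (b ≫ g.hom))
  have wk : ((yon S).map ε ≫ b) ≫ g.hom = (yon S).map k ≫ c := by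
    rw [Category.assoc]; exact sqc.w.symm
  haveI : Smooth k.left := hg _ c k (repWith_comp ((repWith_yon_map_iff _ _).2 ‹Etale ε.left›) hbe) hce wk
  have sqW : IsPullback (pullback.fst snd ε).left (pullback.snd snd ε).left snd.left ε.left :=
    (IsPullback.of_hasPullback snd ε).map (Over.forget S)
  haveI : Etale (pullback.fst snd ε).left := MorphismProperty.of_isPullback sqW.flip ‹Etale ε.left›
  haveI : IsImmersion (pullback.snd snd ε).left := MorphismProperty.of_isPullback sqW ‹IsImmersion snd.left›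
  have hfst : RepWith @Etale fst := repWith_of_isPullback sq.flip hbe
  have ha := he _ (repWith_comp ((repWith_yon_map_iff _ _).2 (inferInstance : Etale (pullback.fst snd ε).left)) hfst)
  have wf : (((yon S).map (pullback.fst snd ε) ≫ fst) ≫ e.hom) ≫ f.hom =
      (yon S).map (pullback.snd snd ε ≫ k) ≫ c := by
    rw [Category.assoc, ← hc, Category.assoc, ← Category.assoc fst, sq.w, Functor.map_comp,
      Category.assoc ((yon S).map (pullback.snd snd ε)), ← wk]
    simp only [← Category.assoc, ← Functor.map_comp, pullback.condition]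
  have hK : ∀ x, Synt.IsKoszulAt ((pullback.snd snd ε).left ≫ k.left) x := hf _ c _ ha hce wf
  exact isRegularImmersion_descent_open snd.left ε.left ε.left.isOpenMap _ _ sqW
    (S8656.result _ hK k.left (pullback.snd snd ε).left rfl)

end Groth.Agent.LciSp27
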