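import Groth.Agent.S10666
import Groth.Agent.S9729
import Groth.Agent.S9730
import Groth.Agent.Lib.KoszulFibre4.Locus

/-!
# The Koszul locus of a morphism of schemes in etale squares
-/

universe u

set_option backward.isDefEq.respectTransparency.types false
set_option linter.style.haveILetI false

open CategoryTheory CategoryTheory.Limits AlgebraicGeometry

namespace Groth.Agent.LciSp27

variable {X X' Y Y' : Scheme.{u}}

theorem kAt_of_open {f : X ⟶ Y} (r : X' ⟶ X) [IsOpenImmersion r] {y : X'} (h : Synt.IsKoszulAt f (r y)) :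
    Synt.IsKoszulAt (r ≫ f) y := by
  obtain ⟨O, Q, j, ρ, hyO, hft, hj, hρ, hjρ⟩ := h
  haveI := hft
  refine ⟨r ⁻¹ᵁ O, Q, (r ∣_ O) ≫ j, ρ, hyO, ?_, CI2.isRegularImmersion_comp_open j hj _, hρ, ?_⟩
  · rw [← Category.assoc, ← morphismRestrict_ι, Category.assoc]; infer_instance
  · rw [Category.assoc, hjρ, ← Category.assoc, morphismRestrict_ι, Category.assoc]

theorem kAt_to_open {f : X ⟶ Y} (r : X' ⟶ X) [IsOpenImmersion r] {y : X'} (h : Synt.IsKoszulAt (r ≫ f) y) :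
    Synt.IsKoszulAt f (r y) := by
  obtain ⟨U, P, i, π, hyU, hft, hi, hπ, hiπ⟩ := h
  haveI := hft
  have e : (r ''ᵁ U).ι ≫ f = (r.isoImage U).inv ≫ U.ι ≫ r ≫ f := by
    rw [← Scheme.Hom.isoImage_inv_ι r U]; simp only [Category.assoc]
  refine ⟨r ''ᵁ U, P, (r.isoImage U).inv ≫ i, π, ⟨y, hyU, rfl⟩, ?_,
    CI2.isRegularImmersion_comp_open i hi _, hπ, ?_⟩
  · rw [e]; infer_instance
  · rw [Category.assoc, hiπ, e]

theorem kAt_open_iff (f : X ⟶ Y) (r : X' ⟶ X) [IsOpenImmersion r] (y : X') :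
    Synt.IsKoszulAt (r ≫ f) y ↔ Synt.IsKoszulAt f (r y) :=
  ⟨kAt_to_open r, kAt_of_open r⟩

/-- Koszul at a point is Koszul near the point. -/
theorem exists_nbhd {f : X ⟶ Y} {x : X} (h : Synt.IsKoszulAt f x) :
    ∃ U : X.Opens, x ∈ U ∧ ∀ y : U.toScheme, Synt.IsKoszulAt (U.ι ≫ f) y := by
  obtain ⟨U, P, i, π, hxU, hft, hi, hπ, hiπ⟩ := h
  haveI := hft
  refine ⟨U, hxU, fun y => ⟨⊤, P, (⊤ : U.toScheme.Opens).ι ≫ i, π, trivial, inferInstance,
    CI2.isRegularImmersion_comp_open i hi _, hπ, ?_⟩⟩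
  rw [Category.assoc, hiπ]

theorem isOpen_setOf_kAt (f : X ⟶ Y) : IsOpen {x : X | Synt.IsKoszulAt f x} :=
  isOpen_iff_forall_mem_open.2 fun x hx => by
    obtain ⟨U, hxU, hU⟩ := exists_nbhd hx
    exact ⟨U, fun y hy => kAt_to_open U.ι (hU ⟨y, hy⟩), U.2, hxU⟩

theorem kAt_etale_comp_iff (e : X' ⟶ X) [Etale e] (f : X ⟶ Y) (a : X') :
    Synt.IsKoszulAt (e ≫ f) a ↔ Synt.IsKoszulAt f (e a) := by
  constructor
  · intro h
    obtain ⟨U, haU, hU⟩ := exists_nbhd h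
    let V : X.Opens := ⟨e '' (U : Set X'), e.isOpenMap _ U.isOpen⟩
    have hle : U ≤ e ⁻¹ᵁ V := fun y hy => ⟨y, hy, rfl⟩
    let g := e.resLE V U hle
    haveI : Etale g := IsZariskiLocalAtSource.resLE (P := @Etale) _ inferInstance
    haveI : Surjective g := ⟨by
      rintro ⟨y, x, hx, rfl⟩
      exact ⟨⟨x, hx⟩, Subtype.ext (e.coe_resLE_apply hle ⟨x, hx⟩)⟩⟩
    have h1 : ∀ y, Synt.IsKoszulAt (g ≫ V.ι ≫ f) y := by
      rw [← Category.assoc, Scheme.Hom.resLE_comp_ι, Category.assoc]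
      exact hU
    exact kAt_to_open V.ι ((S9730.result g (CI2.syntMor_of_smooth g) (V.ι ≫ f)).1 h1 ⟨e a, a, haU, rfl⟩)
  · intro h
    obtain ⟨O, haO, hO⟩ := exists_nbhd h
    haveI : Etale (e ∣_ O) := IsZariskiLocalAtTarget.restrict (P := @Etale) inferInstance O
    have h1 := CI2.isKoszulAt_comp (e ∣_ O) (O.ι ≫ f) (fun y => S10666.koszulAt_of_smooth _ y) hO
      (⟨a, haO⟩ : (e ⁻¹ᵁ O).toScheme)
    rw [← Category.assoc, morphismRestrict_ι, Category.assoc] at h1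
    exact kAt_to_open (e ⁻¹ᵁ O).ι h1

theorem kAt_comp_etale_iff (f : X ⟶ Y) (c : Y ⟶ Y') [Etale c] (a : X) :
    Synt.IsKoszulAt (f ≫ c) a ↔ Synt.IsKoszulAt f a := by
  constructor
  · intro h
    obtain ⟨U, haU, hU⟩ := exists_nbhd h
    exact kAt_to_open U.ι (S9729.result (U.ι ≫ f) c
      (fun y => by rw [Category.assoc]; exact hU y) ⟨a, haU⟩)
  · intro h
    obtain ⟨U, haU, hU⟩ := exists_nbhd h
    refine kAt_to_open U.ι (y := ⟨a, haU⟩) ?_
    rw [← Category.assoc]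
    exact CI2.isKoszulAt_comp (U.ι ≫ f) c hU (fun y => S10666.koszulAt_of_smooth c y) _

/-- Being Koszul at a point is having a local complete intersection chart at the point. -/
theorem kAt_iff_locusMem (f : X ⟶ Y) (x : X) : Synt.IsKoszulAt f x ↔ KoszulFibre4.LocusMem f x := by
  constructor
  · intro h
    obtain ⟨O, hxO, hO⟩ := exists_nbhd h
    obtain ⟨V, hV, hxV, -⟩ := exists_isAffineOpen_mem_and_subset (X := Y) (U := ⊤) (x := f x) trivial
    obtain ⟨U, hU, hxU, hUV⟩ := exists_isAffineOpen_mem_and_subset (X := O.toScheme)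
      (U := (O.ι ≫ f) ⁻¹ᵁ V) (x := ⟨x, hxO⟩) hxV
    have hUV : U ≤ (O.ι ≫ f) ⁻¹ᵁ V := hUV
    have h1 := CI2.isLCI_appLE_of_isKoszulAt (O.ι ≫ f) hO hU hV hUV
    let U' := O.ι ''ᵁ U
    have hU'V : U' ≤ f ⁻¹ᵁ V := by
      rintro _ ⟨z, hz, rfl⟩
      exact hUV hz
    refine ⟨U', V, hU.image_of_isOpenImmersion O.ι, hV, hU'V, ⟨⟨x, hxO⟩, hxU, rfl⟩, ?_⟩
    letI : Algebra Γ(Y, V) Γ(O.toScheme, U) := ((O.ι ≫ f).appLE V U hUV).hom.toAlgebra
    letI : Algebra Γ(Y, V) Γ(X, U') := (f.appLE V U' hU'V).hom.toAlgebra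
    let φ := O.ι.appLE U' U (O.ι.preimage_image_eq U).ge
    haveI : IsIso φ := by
      show IsIso (O.ι.appLE U' U (O.ι.preimage_image_eq U).ge)
      rw [← Scheme.Hom.appIso_hom' O.ι U]
      infer_instance
    let e : Γ(X, U') ≃ₐ[Γ(Y, V)] Γ(O.toScheme, U) :=
      AlgEquiv.ofRingEquiv (f := (asIso φ).commRingCatIsoToRingEquiv) fun r => by
        show (f.appLE V U' hU'V ≫ O.ι.appLE U' U (O.ι.preimage_image_eq U).ge) r = ((O.ι ≫ f).appLE V U hUV) r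
        rw [Scheme.Hom.appLE_comp_appLE]
    exact KoszulFibre4.isLCI_congr e.symm h1
  · rintro ⟨U, V, hU, hV, hUV, hx, hlci⟩
    exact CI2.isKoszulAt_of_isLCI f hU hV hUV hx hlci

/-- The Koszul locus of a morphism over a base over which both schemes are flat and lfp commutes with base change. -/
theorem kAt_baseChange {X Y Z X' Y' Z' : Scheme.{u}} (f : X ⟶ Y) (g : Y ⟶ Z)
    [Flat (f ≫ g)] [LocallyOfFinitePresentation (f ≫ g)] [Flat g] [LocallyOfFinitePresentation g]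
    (h : Z' ⟶ Z) (gY : Y' ⟶ Y) (g' : Y' ⟶ Z') (hY : IsPullback gY g' g h)
    (gX : X' ⟶ X) (f' : X' ⟶ Y') (hX : IsPullback gX f' f gY) (x' : X') :
    Synt.IsKoszulAt f' x' ↔ Synt.IsKoszulAt f (gX x') := by
  rw [kAt_iff_locusMem, kAt_iff_locusMem]
  exact KoszulFibre4.locusMem_baseChange f g h gY g' hY gX f' (hX.paste_vert hY) hX.w x'

end Groth.Agent.LciSp27
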