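import Groth.Agent.Lib.LciSp27.Scheme
import Groth.Agent.Lib.AlgSpRel14.Nbhd
import Groth.Agent.Lib.AlgSpRel14.Cart
import Groth.Agent.Lib.AlgSpDecent.FlatAt
import Groth.Agent.Lib.Where15.Main
import Groth.Prelude.Def_AlgSpMor6

/-!
# Koszul morphisms of algebraic spaces
-/

universe u

set_option backward.isDefEq.respectTransparency.types false
set_option linter.style.haveILetI false

open CategoryTheory CategoryTheory.Limits AlgebraicGeometry AlgSp Opposite Topology

namespace Groth.Agent.LciSp27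

open Groth.Agent.AlgSpace Groth.Agent.AlgSpDecent Groth.Agent.AlgSpRel14

variable {S : Scheme.{u}}

/-- A lift of an etale chart along an etale map of spaces is etale. -/
theorem etale_lift {P X : Sp S} {π : P ⟶ X} (hπ : RepWith @Etale π) {U : Over S} {φ : (yon S).obj U ⟶ P}
    {a : (yon S).obj U ⟶ X} (ha : RepWith @Etale a) (e : φ ≫ π = a) : RepWith @Etale φ := by
  have hrep : Representable π := hπ.1
  have sqA := hrep.isPullback a
  have hw : Etale (hrep.snd a).left := hπ.2 a _ _ sqA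
  let s : U ⟶ hrep.pullback a := hrep.lift φ (𝟙 U) (by simp [e])
  have hs : Etale s.left := by
    have : Etale (s.left ≫ (hrep.snd a).left) := by
      rw [← Over.comp_left, hrep.lift_snd]
      exact inferInstanceAs (Etale (𝟙 U.left))
    exact Etale.of_comp s.left (hrep.snd a).left
  have hk : RepWith @Etale (hrep.fst a) := repWith_of_isPullback sqA.flip ha
  have hsk : (yon S).map s ≫ hrep.fst a = φ := hrep.lift_fst _ _ _
  rw [← hsk]
  exact repWith_comp ((repWith_yon_map_iff _ _).2 hs) hk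

/-- Koszul at the point. -/
def KAt (A B : Scheme.{u}) (h : A ⟶ B) (u : ↥A) : Prop := Synt.IsKoszulAt h u

theorem etInv_kAt : EtInv.{u} KAt := by
  intro A B C D p r h h' hp hr w z
  show Synt.IsKoszulAt h' z ↔ Synt.IsKoszulAt h (p z)
  rw [← kAt_comp_etale_iff h' r z, ← w, kAt_etale_comp_iff p h z]

theorem kAt_chart {F G : Sp S} {f : F ⟶ G} {U V : Over S} {a : (yon S).obj U ⟶ F} (ha : RepWith @Etale a)
    {b : (yon S).obj V ⟶ G} (hb : RepWith @Etale b) {h : U ⟶ V} (w : a ≫ f = (yon S).map h ≫ b) (u : U.left) :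
    HasAtMor KAt f (Points.ofPt a u) ↔ Synt.IsKoszulAt h.left u :=
  hasAtMor_iff_of_chart' etInv_kAt ha hb w u

theorem isLCIMor_iff {F G : Sp S} (hF : IsAlgSpace F) (hG : IsAlgSpace G) (f : F ⟶ G) :
    IsLCIMor f ↔ ∀ x, HasAtMor KAt f x := by
  constructor
  · intro hf x
    obtain ⟨U, V, a, b, h, u, hae, hbe, w, rfl⟩ := exists_diagram hF hG f x
    exact (kAt_chart hae hbe w u).2 (hf a b h hae hbe w u)
  · intro hx U V a b h hae hbe w u
    exact (kAt_chart hae hbe w u).1 (hx _)

theorem isOpen_locus {F G : Sp S} (hF : IsAlgSpace F) (hG : IsAlgSpace G) (f : F ⟶ G) :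
    IsOpen {x : Points F | HasAtMor KAt f x} := by
  obtain ⟨U, V, a, b, h, hae, has, hbe, -, w⟩ := exists_chart_square hF hG f
  rw [← (isOpenQuotientMap_ofPt hae has).isQuotientMap.isOpen_preimage]
  exact (congrArg IsOpen (Set.ext fun u => kAt_chart hae hbe w u)).mpr (isOpen_setOf_kAt h.left)

theorem locPNear_iff {X Y : Space S} (f : X.obj ⟶ Y.obj) (x : Points X.obj) :
    LocPNear lci f x ↔ HasAtMor KAt f x := by
  constructor
  · rintro ⟨W, j, hj, ⟨w, rfl⟩, hl⟩
    obtain ⟨U, V, a, b, h, u, hae, hbe, wd, rfl⟩ :=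
      exists_diagram (isAlgSpace_of_representable hj.1 X.property) Y.property (j ≫ f) w
    have haj : RepWith @Etale (a ≫ j) :=
      repWith_comp hae (repWith_mono (Q := @Etale) (fun _ _ g (_ : IsOpenImmersion g) => inferInstance) hj)
    rw [Points.map_ofPt]
    exact (kAt_chart haj hbe ((Category.assoc _ _ _).trans wd) u).2 (hl a b h hae hbe wd u)
  · intro hx
    obtain ⟨X₁, j, hj, hr⟩ := exists_open_space X (isOpen_locus X.property Y.property f)
    refine ⟨X₁.obj, j.hom, hj, by rw [hr]; exact hx, fun U V a b h hae hbe w u => ?_⟩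
    have haj : RepWith @Etale (a ≫ j.hom) :=
      repWith_comp hae (repWith_mono (Q := @Etale) (fun _ _ g (_ : IsOpenImmersion g) => inferInstance) hj)
    refine (kAt_chart haj hbe ((Category.assoc _ _ _).trans w) u).1 ?_
    rw [← Points.map_ofPt]
    exact hr.subset ⟨_, rfl⟩

/-- The Koszul locus commutes with base change when source and target are flat and lfp over the base. -/
theorem locus_baseChange {X Y Z X' Y' Z' : Space S} (f : X ⟶ Y) (q : Y ⟶ Z)
    (hp1 : LocP @Flat (f.hom ≫ q.hom)) (hp2 : LocP @LocallyOfFinitePresentation (f.hom ≫ q.hom))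
    (hq1 : LocP @Flat q.hom) (hq2 : LocP @LocallyOfFinitePresentation q.hom)
    (g : Z' ⟶ Z) (gY : Y' ⟶ Y) (q' : Y' ⟶ Z') (sY : IsPullback gY.hom q'.hom q.hom g.hom)
    (gX : X' ⟶ X) (f' : X' ⟶ Y') (sX : IsPullback gX.hom f'.hom f.hom gY.hom) (x' : Points X'.obj) :
    HasAtMor KAt f'.hom x' ↔ HasAtMor KAt f.hom (Points.map gX.hom x') := by
  obtain ⟨V, W, b, c, k, hbe, hbs, hce, hcs, wg⟩ := exists_chart_square Y.property Z.property q.hom
  obtain ⟨U, a, m, hae, has, wf⟩ := exists_chart_over X.property Y.property f.hom b hbe hbs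
  have wfg : a ≫ f.hom ≫ q.hom = (yon S).map (m ≫ k) ≫ c := by
    rw [Functor.map_comp, Category.assoc, ← wg, ← Category.assoc, wf, Category.assoc]
  have : Flat (m.left ≫ k.left) := hp1 a c (m ≫ k) hae hce wfg
  have : LocallyOfFinitePresentation (m.left ≫ k.left) := hp2 a c (m ≫ k) hae hce wfg
  have : Flat k.left := hq1 b c k hbe hce wg
  have : LocallyOfFinitePresentation k.left := hq2 b c k hbe hce wg
  have sqN : IsPullback (pullback.fst g.hom c) (pullback.snd g.hom c) g.hom c := IsPullback.of_hasPullback g.hom c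
  obtain ⟨W', r, hre, hrs⟩ :=
    (isAlgSpace_pullback Z.property Z'.property (IsAlgSpace.yon_obj W) sqN).atlas
  obtain ⟨γ, hγ⟩ := (yon S).map_surjective (r ≫ pullback.snd g.hom c)
  obtain ⟨a', ha'e, ha's, ha'p, ha'q⟩ := FlatAt.exists_bc_chart (sX.paste_vert sY) hae has wfg sqN hre hrs hγ
  obtain ⟨b', hb'e, -, hb'p, hb'q⟩ := FlatAt.exists_bc_chart sY hbe hbs wg sqN hre hrs hγ
  let m' : pullback (m ≫ k) γ ⟶ pullback k γ :=
    pullback.lift (pullback.fst _ _ ≫ m) (pullback.snd _ _)
      (by rw [Category.assoc]; exact pullback.condition)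
  have wf' : a' ≫ f'.hom = (yon S).map m' ≫ b' := by
    apply sY.hom_ext
    · rw [Category.assoc, ← sX.w, ← Category.assoc, ha'p, Category.assoc, wf, Category.assoc, hb'p,
        ← Functor.map_comp_assoc, ← Functor.map_comp_assoc, pullback.lift_fst]
    · rw [Category.assoc, ha'q, Category.assoc, hb'q, ← Functor.map_comp_assoc, pullback.lift_snd]
  have sV : IsPullback (pullback.fst k γ).left (pullback.snd k γ).left k.left γ.left :=
    (IsPullback.of_hasPullback k γ).map (Over.forget S)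
  have sU' : IsPullback (pullback.fst (m ≫ k) γ) m' m (pullback.fst k γ) :=
    IsPullback.of_bot (by rw [pullback.lift_snd]; exact IsPullback.of_hasPullback _ _)
      (pullback.lift_fst _ _ _).symm (IsPullback.of_hasPullback k γ)
  have sU : IsPullback (pullback.fst (m ≫ k) γ).left m'.left m.left (pullback.fst k γ).left :=
    sU'.map (Over.forget S)
  obtain ⟨u', rfl⟩ := surjective_ofPt ha's x'
  have hx : Points.map gX.hom (Points.ofPt a' u') =
      Points.ofPt a ((pullback.fst (m ≫ k) γ).left u') := by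
    rw [Points.ofPt_eq_map_ofScheme a', ← Points.map_comp, ha'p, ← Points.ofPt_eq_map_ofScheme, ofPt_map_comp]
  rw [hx, kAt_chart ha'e hb'e wf' u', kAt_chart hae hbe wf]
  exact kAt_baseChange m.left k.left γ.left _ _ sV _ _ sU u'

open Groth.Agent.Where15 in
/-- The open subspace over which the base change is a Koszul morphism. -/
theorem exists_where_lci {X Y Z : Space S} {f : X ⟶ Y} {q : Y ⟶ Z}
    (hp1 : LocP @Flat (f.hom ≫ q.hom)) (hp2 : LocP @LocallyOfFinitePresentation (f.hom ≫ q.hom))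
    (hp3 : IsClosedMor (f.hom ≫ q.hom)) (hq1 : LocP @Flat q.hom) (hq2 : LocP @LocallyOfFinitePresentation q.hom) :
    ∃ (W : Space S) (w : W ⟶ Z), RepWith @IsOpenImmersion w.hom ∧
      ∀ (Z' : Space S) (g : Z' ⟶ Z), (∃ k : Z' ⟶ W, k ≫ w = g) ↔
        ∀ D : BCData f q Z' g, IsLCIMor D.f'.hom := by
  refine exists_where (Points.map (f.hom ≫ q.hom) '' {x | HasAtMor KAt f.hom x}ᶜ)
    (hp3 _ (isOpen_locus X.property Y.property f.hom).isClosed_compl) _ fun Z' g => ⟨?_, ?_⟩
  · intro h z
    rintro ⟨x, hx, hxz⟩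
    let D := bcData f q Z' g
    obtain ⟨x', rfl⟩ := D.exists_pt hxz
    exact hx ((locus_baseChange f q hp1 hp2 hq1 hq2 g D.gY D.q' D.sY D.gX D.f' D.sX x').1
      ((isLCIMor_iff D.X'.property D.Y'.property _).1 (h D) x'))
  · intro h D
    rw [isLCIMor_iff D.X'.property D.Y'.property]
    intro x'
    rw [locus_baseChange f q hp1 hp2 hq1 hq2 g D.gY D.q' D.sY D.gX D.f' D.sX x']
    by_contra hb
    exact h _ ⟨_, hb, D.map_pt x'⟩

end Groth.Agent.LciSp27
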